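import Mathlib

/-!
Kovács: a finite solvable group with a fixed-point-free automorphism of order dividing 4 has
nilpotent derived subgroup.
-/

set_option linter.style.haveILetI false
set_option linter.unusedSectionVars false

namespace Cfsg.Lib.FpfFour

open Subgroup

universe u v

/-- a fixed-point-free automorphism: `g ↦ g⁻¹ t(g)` is bijective -/
theorem bijective_inv_mul {H : Type u} [Group H] [Finite H] (t : MulAut H)
    (ht : ∀ h, t h = h → h = 1) : Function.Bijective fun h => h⁻¹ * t h := by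
  refine Finite.injective_iff_bijective.mp fun a b h => ?_
  have h' : t (b * a⁻¹) = b * a⁻¹ := by
    have e : t b = b * (a⁻¹ * t a) := by
      rw [show a⁻¹ * t a = b⁻¹ * t b from h, mul_inv_cancel_left]
    rw [map_mul, map_inv, e]; group
  exact (mul_inv_eq_one.mp (ht _ h')).symm

theorem comm_of_fpf_two {H : Type u} [Group H] [Finite H] (t : MulAut H)
    (ht : ∀ h, t h = h → h = 1) (h2 : ∀ h, t (t h) = h) (a b : H) : a * b = b * a := by
  have hinv : ∀ y, t y = y⁻¹ := fun y => by
    obtain ⟨h, rfl⟩ := (bijective_inv_mul t ht).2 y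
    simp [h2]
  have := map_mul t a b
  rw [hinv, hinv, hinv, mul_inv_rev] at this
  have h' := congrArg (·⁻¹) this
  simpa using h'

/-- a minimal non-trivial subgroup satisfying a property -/
theorem exists_minimal_sub {H : Type u} [Group H] [Finite H] [Nontrivial H] (P : Subgroup H → Prop)
    (htop : P ⊤) : ∃ A : Subgroup H, A ≠ ⊥ ∧ P A ∧
      ∀ B : Subgroup H, B ≤ A → B ≠ ⊥ → P B → B = A := by
  obtain ⟨A, hA⟩ := exists_minimal_le_of_wellFoundedLT (fun A : Subgroup H => A ≠ ⊥ ∧ P A) ⊤
    ⟨top_ne_bot, htop⟩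
  exact ⟨A, hA.2.prop.1, hA.2.prop.2, fun B hB h1 h2 => le_antisymm hB (hA.2.le_of_le ⟨h1, h2⟩ hB)⟩

/-- an abelian minimal invariant normal subgroup of prime exponent -/
theorem exists_invariant_minimal {H : Type u} [Group H] [Finite H] [Nontrivial H]
    [Group.IsSolvable H] (t : MulAut H) : ∃ (A : Subgroup H) (q : ℕ), q.Prime ∧ A ≠ ⊥ ∧ A.Normal ∧
      (∀ a ∈ A, t a ∈ A) ∧ (∀ a ∈ A, ∀ b ∈ A, a * b = b * a) ∧ (∀ a ∈ A, a ^ q = 1) ∧
      (∀ B : Subgroup H, B ≤ A → B ≠ ⊥ → B.Normal → (∀ b ∈ B, t b ∈ B) → B = A) := by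
  obtain ⟨A, hA, ⟨hAn, hAt⟩, hmin⟩ := exists_minimal_sub
    (fun A : Subgroup H => A.Normal ∧ ∀ a ∈ A, t a ∈ A) ⟨inferInstance, fun a _ => mem_top _⟩
  haveI := hAn
  have hab : ∀ a ∈ A, ∀ b ∈ A, a * b = b * a := by
    have hbot : ⁅A, A⁆ = ⊥ := by
      by_contra hne
      have hle : ⁅A, A⁆ ≤ A := commutator_le_self A
      have heq : ⁅A, A⁆ = A := hmin _ hle hne ⟨inferInstance, fun x hx => by
        have h1 : (⁅A, A⁆).map t.toMonoidHom ≤ ⁅A, A⁆ := by
          rw [map_commutator]
          exact commutator_mono (map_le_iff_le_comap.mpr hAt) (map_le_iff_le_comap.mpr hAt)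
        exact h1 ⟨x, hx, rfl⟩⟩
      haveI : Group.IsSolvable A := inferInstance
      obtain ⟨n, hn⟩ := Group.IsSolvable.solvable (G := A)
      have : ∀ m, (derivedSeries A m).map A.subtype = A := fun m => by
        induction m with
        | zero => rw [derivedSeries_zero, ← MonoidHom.range_eq_map, range_subtype]
        | succ m ih => rw [derivedSeries_succ, map_commutator, ih, heq]
      exact hA (by rw [← this n, hn, Subgroup.map_bot])
    intro a ha b hb
    exact commutatorElement_eq_one_iff_mul_comm.mp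
      (mem_bot.mp (hbot ▸ commutator_mem_commutator ha hb))
  obtain ⟨q, hq, hqd⟩ := Nat.exists_prime_and_dvd ((one_lt_card_iff_ne_bot A).mpr hA).ne'
  haveI := Fact.mk hq
  obtain ⟨a, ha⟩ := exists_prime_orderOf_dvd_card' (G := A) q hqd
  let B : Subgroup H :=
    { carrier := {x | x ∈ A ∧ x ^ q = 1}
      one_mem' := ⟨one_mem A, one_pow q⟩
      mul_mem' := fun {x y} hx hy => ⟨mul_mem hx.1 hy.1, by
        rw [(show Commute x y from hab x hx.1 y hy.1).mul_pow, hx.2, hy.2, one_mul]⟩
      inv_mem' := fun {x} hx => ⟨inv_mem hx.1, by rw [inv_pow, hx.2, inv_one]⟩ }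
  have hBA : B = A := hmin B (fun x hx => hx.1)
    (fun hB => by
      have : (a : H) ∈ B := ⟨a.2, by rw [← ha, ← Subgroup.orderOf_coe, pow_orderOf_eq_one]⟩
      rw [hB, mem_bot, OneMemClass.coe_eq_one] at this
      exact hq.one_lt.ne (by rw [← ha, this, orderOf_one]))
    ⟨⟨fun x hx g => ⟨hAn.conj_mem x hx.1 g, by rw [conj_pow, hx.2, mul_one, mul_inv_cancel]⟩⟩,
      fun x hx => ⟨hAt x hx.1, by rw [← map_pow, hx.2, map_one]⟩⟩
  exact ⟨A, q, hq, hA, hAn, hAt, hab, fun x hx => (hBA.ge hx).2,
    fun C h1 h2 h3 h4 => hmin C h1 h2 ⟨h3, h4⟩⟩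

/-- The key lemma: a solvable group acting faithfully and irreducibly. -/
theorem comm_of_action {H : Type u} [Group H] [Finite H] [Group.IsSolvable H]
    {V : Type v} [CommGroup V] [Finite V] {p : ℕ} [hp : Fact p.Prime] (hVp : IsPGroup p V)
    (ρ : H →* MulAut V) (hρ : Function.Injective ρ) (s : MulAut V) (t : MulAut H)
    (hst : ∀ h v, s (ρ h v) = ρ (t h) (s v))
    (hs4 : ∀ v, s (s (s (s v))) = v) (ht4 : ∀ h, t (t (t (t h))) = h)
    (hsf : ∀ v, s v = v → v = 1) (htf : ∀ h, t h = h → h = 1)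
    (hirr : ∀ W : Subgroup V, (∀ h, ∀ w ∈ W, ρ h w ∈ W) → (∀ w ∈ W, s w ∈ W) → W = ⊥ ∨ W = ⊤)
    (a b : H) : a * b = b * a := by
  classical
  rcases subsingleton_or_nontrivial H with hS | hN
  · exact Subsingleton.elim _ _
  haveI : Nontrivial V := by
    by_contra h
    rw [not_nontrivial_iff_subsingleton] at h
    obtain ⟨x, hx⟩ := exists_ne (1 : H)
    exact hx (hρ (MulEquiv.ext fun v => Subsingleton.elim _ _))
  obtain ⟨A, q, hq, hA, hAn, hAt, hab, hAq, -⟩ := exists_invariant_minimal t
  haveI := hAn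
  haveI := Fact.mk hq
  haveI := Fintype.ofFinite A
  -- the fixed points of `A`
  let W : Subgroup V :=
    { carrier := {v | ∀ x ∈ A, ρ x v = v}
      one_mem' := fun x _ => map_one _
      mul_mem' := fun {v w} hv hw x hx => by rw [map_mul, hv x hx, hw x hx]
      inv_mem' := fun {v} hv x hx => by rw [map_inv, hv x hx] }
  have hWtop : W ≠ ⊤ := fun h => by
    obtain ⟨x, hxA, hx1⟩ := A.bot_or_exists_ne_one.resolve_left hA
    refine hx1 (hρ (MulEquiv.ext fun v => ?_))
    rw [map_one, MulAut.one_apply]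
    exact (h.ge (mem_top v) : v ∈ W) x hxA
  have hWbot : W = ⊥ := by
    refine (hirr W (fun h w hw x hx => ?_) fun w hw x hx => ?_).resolve_right hWtop
    · have := hw (h⁻¹ * x * h) (by simpa using hAn.conj_mem x hx h⁻¹)
      rw [map_mul, map_mul, MulAut.mul_apply, MulAut.mul_apply] at this
      have h' := congrArg (ρ h) this
      have e : ∀ v, ρ h (ρ h⁻¹ v) = v := fun v => by
        rw [← MulAut.mul_apply, ← map_mul, mul_inv_cancel, map_one, MulAut.one_apply]
      rwa [e] at h'
    · have hx' : t (t (t x)) ∈ A := hAt _ (hAt _ (hAt x hx))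
      have := congrArg s (hw _ hx')
      rwa [hst, ht4] at this
  have hfix : ∀ v, (∀ x ∈ A, ρ x v = v) → v = 1 := fun v hv =>
    mem_bot.mp (hWbot ▸ (hv : v ∈ W))
  have hqp : q ≠ p := by
    rintro rfl
    have hAp : IsPGroup q A := fun x => ⟨1, Subtype.ext (by simpa using hAq x x.2)⟩
    letI : MulAction A V := MulAction.compHom V (ρ.comp A.subtype)
    obtain ⟨v, hv, hne⟩ := hAp.exists_fixed_point_of_prime_dvd_card_of_fixed_point V
      (by
        rcases hVp.card_eq_or_dvd with h | h
        · exact absurd h (Finite.one_lt_card (α := V)).ne'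
        · exact h)
      (a := 1) (fun x => map_one (ρ (x : H)))
    exact hne (hfix v fun x hx => hv ⟨x, hx⟩).symm
  have hnorm : ∀ v, v * s v * s (s v) * s (s (s v)) = 1 := fun v => hsf _ (by
    simp only [map_mul, hs4]; ac_rfl)
  -- inversion lemma
  have key : ∀ w : V, s (s w) = w⁻¹ := by
    have hc : ∀ x y : A, ((x : H) * y) = y * x := fun x y => hab x x.2 y y.2
    let T : (A → A) → V → V := fun f u => ∏ x : A, ρ (f x : H) u
    let k1 : A → A := fun x => ⟨(x : H)⁻¹ * t x, mul_mem (inv_mem x.2) (hAt _ x.2)⟩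
    let k2 : A → A := fun x => ⟨(x : H)⁻¹ * t (t x), mul_mem (inv_mem x.2) (hAt _ (hAt _ x.2))⟩
    let k3 : A → A := fun x =>
      ⟨(x : H)⁻¹ * t (t (t x)), mul_mem (inv_mem x.2) (hAt _ (hAt _ (hAt _ x.2)))⟩
    have hT : ∀ (f : A → A), Function.Bijective f → ∀ u, T f u = 1 := by
      intro f hf u
      have hTid : T f u = ∏ x : A, ρ (x : H) u := Fintype.prod_bijective f hf _ _ fun x => rfl
      rw [hTid]
      refine hfix _ fun y hy => ?_
      rw [map_prod]
      refine Fintype.prod_equiv (Equiv.mulLeft (⟨y, hy⟩ : A)) _ _ fun x => ?_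
      rw [← MulAut.mul_apply, ← map_mul]; rfl
    have hbij1 : Function.Bijective k1 := Finite.injective_iff_bijective.mp fun x y h =>
      Subtype.ext ((bijective_inv_mul t htf).1 (congrArg Subtype.val h))
    have hbij3 : Function.Bijective k3 := by
      have htf' : ∀ h, t (t (t h)) = h → h = 1 := fun h e => htf h (by
        have := congrArg t e; rw [ht4] at this; exact this.symm)
      exact Finite.injective_iff_bijective.mp fun x y h =>
        Subtype.ext ((bijective_inv_mul (t * t * t) htf').1 (congrArg Subtype.val h))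
    have hid : ∀ w, w ^ Fintype.card A * T k1 (s w) * T k2 (s (s w)) * T k3 (s (s (s w))) = 1 := by
      intro w
      have h1 : ∀ x : A, w * ρ (k1 x : H) (s w) * ρ (k2 x : H) (s (s w)) *
          ρ (k3 x : H) (s (s (s w))) = 1 := fun x => by
        have h := congrArg (ρ (x : H)⁻¹) (hnorm (ρ (x : H) w))
        simp only [map_mul, map_one, hst] at h
        simp only [k1, k2, k3, map_mul, MulAut.mul_apply]
        have e : ρ (x : H)⁻¹ (ρ (x : H) w) = w := by
          rw [← MulAut.mul_apply, ← map_mul, inv_mul_cancel, map_one, MulAut.one_apply]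
        rwa [e] at h
      have h2 := Finset.prod_eq_one (s := (Finset.univ : Finset A)) fun x _ => h1 x
      rwa [Finset.prod_mul_distrib, Finset.prod_mul_distrib, Finset.prod_mul_distrib,
        Finset.prod_const, Finset.card_univ] at h2
    have hcop : (Fintype.card A).Coprime p := by
      have hAq' : IsPGroup q A := fun x => ⟨1, Subtype.ext (by simpa using hAq x x.2)⟩
      obtain ⟨n, hn⟩ := IsPGroup.iff_card.mp hAq'
      rw [← Nat.card_eq_fintype_card, hn]
      exact ((Nat.coprime_primes hq hp.out).mpr hqp).pow_left n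
    have hpow : ∀ v w : V, v ^ Fintype.card A = w ^ Fintype.card A → v = w := fun v w h => by
      obtain ⟨k, hk⟩ := IsPGroup.iff_card.mp hVp
      exact (powCoprime (G := V) (n := Fintype.card A) (by rw [hk]; exact (hcop.pow_right k).symm)).injective h
    have hE : ∀ w, T k2 (s (s w)) = (w ^ Fintype.card A)⁻¹ := fun w => by
      have h := hid w
      rw [hT k1 hbij1, hT k3 hbij3, mul_one, mul_one] at h
      exact eq_inv_of_mul_eq_one_right h
    have htriv : ∀ y : A, k2 y = 1 := fun y => by
      refine Subtype.ext (hρ (MulEquiv.ext fun w => ?_))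
      rw [OneMemClass.coe_one, map_one, MulAut.one_apply]
      refine hpow _ _ ?_
      rw [← map_pow]
      have hfx : ρ (k2 y : H) (T k2 (s (s w))) = T k2 (s (s w)) := by
        simp only [T, map_prod]
        refine Fintype.prod_equiv (Equiv.mulLeft y) _ _ fun x => ?_
        rw [← MulAut.mul_apply, ← map_mul]
        congr 2
        show (y : H)⁻¹ * t (t y) * ((x : H)⁻¹ * t (t x)) = ((y : H) * x)⁻¹ * t (t ((y : H) * x))
        rw [map_mul, map_mul]
        have e : t (t (y : H)) * (x : H)⁻¹ = (x : H)⁻¹ * t (t (y : H)) :=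
          hab _ (hAt _ (hAt _ y.2)) _ (inv_mem x.2)
        calc (y : H)⁻¹ * t (t y) * ((x : H)⁻¹ * t (t x))
            = (y : H)⁻¹ * (t (t y) * (x : H)⁻¹) * t (t x) := by group
          _ = ((y : H)⁻¹ * (x : H)⁻¹) * t (t y) * t (t x) := by rw [e]; group
          _ = ((x : H)⁻¹ * (y : H)⁻¹) * t (t y) * t (t x) := by
              rw [hab _ (inv_mem y.2) _ (inv_mem x.2)]
          _ = _ := by group
      rw [hE, map_inv, inv_inj] at hfx
      exact hfx
    intro w
    refine hpow _ _ ?_
    have h := hE w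
    simp only [T, htriv, OneMemClass.coe_one, map_one, MulAut.one_apply, Finset.prod_const,
      Finset.card_univ] at h
    rw [h, inv_pow]
  refine comm_of_fpf_two t htf (fun h => hρ (MulEquiv.ext fun v => ?_)) a b
  have h1 := key (ρ h v)
  rw [hst, hst, key, map_inv, inv_inj] at h1
  exact h1

theorem aux (n : ℕ) : ∀ (G : Type u) [Group G] [Finite G] [Group.IsSolvable G] (σ : MulAut G),
    (∀ g, σ (σ (σ (σ g))) = g) → (∀ g, σ g = g → g = 1) → Nat.card G = n →
    Group.IsNilpotent (commutator G) := by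
  induction n using Nat.strong_induction_on with
  | _ n ih =>
  intro G _ _ _ σ h4 hf hn
  rcases subsingleton_or_nontrivial G with hS | hNt
  · haveI : Subsingleton (commutator G) := inferInstance
    infer_instance
  obtain ⟨V, p, hp, hV, hVn, hVt, hVab, hVp, hVmin⟩ := exists_invariant_minimal σ
  haveI := hVn
  haveI := Fact.mk hp
  -- quotients
  have hfq : ∀ (N : Subgroup G) [N.Normal], (∀ x ∈ N, σ x ∈ N) →
      ∃ σ' : MulAut (G ⧸ N), (∀ g : G, σ' g = (σ g : G)) ∧ (∀ q, σ' (σ' (σ' (σ' q))) = q) ∧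
        ∀ q, σ' q = q → q = 1 := by
    intro N _ hN
    have hmap : N.map σ.toMonoidHom = N :=
      eq_of_le_of_card_ge (map_le_iff_le_comap.mpr hN)
        (Nat.card_congr (N.equivMapOfInjective _ σ.injective).toEquiv).le
    refine ⟨QuotientGroup.congr N N σ hmap, fun g => rfl, fun q => ?_, fun q hq => ?_⟩
    · obtain ⟨g, rfl⟩ := QuotientGroup.mk_surjective q
      show ((σ (σ (σ (σ g))) : G) : G ⧸ N) = _
      rw [h4]
    · obtain ⟨g, rfl⟩ := QuotientGroup.mk_surjective q
      have hmem : g⁻¹ * σ g ∈ N := QuotientGroup.eq.mp (hq.symm : (g : G ⧸ N) = (σ g : G))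
      have hb : Function.Bijective fun x : N =>
          (⟨(x : G)⁻¹ * σ x, mul_mem (inv_mem x.2) (hN x x.2)⟩ : N) :=
        Finite.injective_iff_bijective.mp fun a b h =>
          Subtype.ext ((bijective_inv_mul σ hf).1 (congrArg Subtype.val h))
      obtain ⟨x, hx⟩ := hb.2 ⟨_, hmem⟩
      have hgx : (x : G) = g := (bijective_inv_mul σ hf).1 (congrArg Subtype.val hx)
      exact (QuotientGroup.eq_one_iff g).mpr (hgx ▸ x.2)
  -- the quotient by `V`
  obtain ⟨σ₁, -, h41, hf1⟩ := hfq V hVt
  haveI hnil : Group.IsNilpotent (commutator (G ⧸ V)) := ih _ (by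
    rw [← hn, card_eq_card_quotient_mul_card_subgroup V]
    exact lt_mul_of_one_lt_right Nat.card_pos ((one_lt_card_iff_ne_bot V).mpr hV)) (G ⧸ V) σ₁ h41 hf1 rfl
  -- the action on `V`
  haveI : IsMulCommutative V := ⟨⟨fun a b => Subtype.ext (hVab a a.2 b b.2)⟩⟩
  letI : CommGroup V := { (inferInstance : Group V) with mul_comm := mul_comm' }
  set U := centralizer (V : Set G) with hU
  have hUn : U.Normal := inferInstance
  have hUt : ∀ x ∈ U, σ x ∈ U := fun x hx => mem_centralizer_iff.mpr fun v hv => by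
    have hv' : σ (σ (σ v)) ∈ V := hVt _ (hVt _ (hVt v hv))
    have := congrArg σ (mem_centralizer_iff.mp hx _ hv')
    rwa [map_mul, map_mul, h4] at this
  obtain ⟨σ₂, hσ₂, h42, hf2⟩ := hfq U hUt
  have hker : U ≤ (MulAut.conjNormal : G →* MulAut V).ker := fun x hx =>
    MulEquiv.ext fun v => Subtype.ext (by
      show x * v * x⁻¹ = v
      rw [← mem_centralizer_iff.mp hx v v.2, mul_inv_cancel_right])
  let ρ : G ⧸ U →* MulAut V := QuotientGroup.lift U MulAut.conjNormal hker
  have hρ : Function.Injective ρ := by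
    refine (injective_iff_map_eq_one ρ).mpr fun q hq => ?_
    obtain ⟨g, rfl⟩ := QuotientGroup.mk_surjective q
    refine (QuotientGroup.eq_one_iff g).mpr (mem_centralizer_iff.mpr fun v hv => ?_)
    have h1 : g * v * g⁻¹ = v := congrArg Subtype.val (DFunLike.congr_fun hq (⟨v, hv⟩ : V))
    exact (mul_inv_eq_iff_eq_mul.mp h1).symm
  let s : MulAut V := MulEquiv.ofBijective
    ((σ.toMonoidHom.comp V.subtype).codRestrict V fun v => hVt v v.2)
    (Finite.injective_iff_bijective.mp fun a b h => Subtype.ext (σ.injective (congrArg Subtype.val h)))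
  have hcomm := comm_of_action (p := p) (V := V) (fun v => ⟨1, Subtype.ext (by simpa using hVp v v.2)⟩)
    ρ hρ s σ₂
    (fun q v => by
      obtain ⟨g, rfl⟩ := QuotientGroup.mk_surjective q
      rw [hσ₂]
      refine Subtype.ext ?_
      show σ (g * (v : G) * g⁻¹) = σ g * σ v * (σ g)⁻¹
      simp only [map_mul, map_inv])
    (fun v => Subtype.ext (h4 v)) h42 (fun v hv => Subtype.ext (hf v (congrArg Subtype.val hv))) hf2
    (fun W hW1 hW2 => by
      by_cases hW : W = ⊥
      · exact Or.inl hW
      right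
      have heq : W.map V.subtype = V := hVmin _ (map_subtype_le W)
        (fun h => hW ((map_eq_bot_iff_of_injective _ V.subtype_injective).mp h))
        ⟨fun x hx g => by
          obtain ⟨w, hw, rfl⟩ := hx
          exact ⟨_, hW1 (g : G ⧸ U) w hw, rfl⟩⟩
        (fun x hx => by
          obtain ⟨w, hw, rfl⟩ := hx
          exact ⟨_, hW2 w hw, rfl⟩)
      refine eq_top_iff.mpr fun v _ => ?_
      obtain ⟨w, hw, he⟩ := heq.ge v.2
      rwa [← V.subtype_injective he])
  have hle : commutator G ≤ U := by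
    rw [← QuotientGroup.ker_mk' U, commutator_eq_closure, closure_le]
    rintro _ ⟨x, y, rfl⟩
    rw [SetLike.mem_coe, MonoidHom.mem_ker, map_commutatorElement,
      commutatorElement_eq_one_iff_mul_comm]
    exact hcomm _ _
  let f : commutator G →* commutator (G ⧸ V) :=
    ((QuotientGroup.mk' V).comp (commutator G).subtype).codRestrict _ fun x => by
      have : (commutator G).map (QuotientGroup.mk' V) ≤ commutator (G ⧸ V) := by
        rw [commutator_def, commutator_def, map_commutator]
        exact commutator_mono le_top le_top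
      exact this ⟨x, x.2, rfl⟩
  refine Subgroup.isNilpotent_of_ker_le_center f fun x hx => ?_
  have hxV : (x : G) ∈ V := (QuotientGroup.eq_one_iff _).mp (congrArg Subtype.val hx)
  exact mem_center_iff.mpr fun y => Subtype.ext (mem_centralizer_iff.mp (hle y.2) _ hxV).symm

theorem isNilpotent_commutator {G : Type u} [Group G] [Finite G] (hG : Group.IsSolvable G)
    (σ : MulAut G) (hσ : σ ^ 4 = 1) (hf : ∀ g, σ g = g → g = 1) :
    Group.IsNilpotent (commutator G) := by
  haveI := hG
  refine aux _ G σ (fun g => ?_) hf rfl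
  have := DFunLike.congr_fun hσ g
  simpa [pow_succ, MulAut.mul_apply] using this

end Cfsg.Lib.FpfFour
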